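import Mathlib

/-!
Central extensions with kernel of exponent two: a certificate that every such extension splits over
a Sylow 2-subgroup, given by a collected table of products with symbolic kernel parts and linear
equations from associativity and from conjugation.
-/

set_option autoImplicit false

namespace Cfsg.Agent.CentralTwo

/-! ### Normal forms -/

section NormalForm

variable {G : Type*} [Group G] (a : ℕ → G)

/-- The element with a given exponent word; the highest generator is on the left. -/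
def nform : ℕ → ℕ → G
  | 0, _ => 1
  | n + 1, e => if 2 ^ n ≤ e then a n * nform n (e - 2 ^ n) else nform n e

theorem nform_low {n e : ℕ} (h : e < 2 ^ n) : nform a (n + 1) e = nform a n e := by
  rw [nform, if_neg (by omega)]

theorem nform_high {n e : ℕ} : nform a (n + 1) (2 ^ n + e) = a n * nform a n e := by
  rw [nform, if_pos (by omega), Nat.add_sub_cancel_left]

theorem nform_mono {m e : ℕ} : ∀ {n}, m ≤ n → e < 2 ^ m → nform a n e = nform a m e
  | n, h, he => by
    induction n with
    | zero => rw [Nat.le_zero.1 h]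
    | succ n ih =>
      rcases Nat.eq_or_lt_of_le h with rfl | h'
      · rfl
      · rw [nform_low a (lt_of_lt_of_le he (Nat.pow_le_pow_right (by norm_num) (by omega))),
          ih (by omega)]

theorem nform_zero (n : ℕ) : nform a n 0 = 1 := by
  rw [nform_mono a (Nat.zero_le n) (by norm_num : 0 < 2 ^ 0), nform]

theorem nform_two_pow {n k : ℕ} (hk : k < n) : nform a n (2 ^ k) = a k := by
  rw [nform_mono a (Nat.succ_le_of_lt hk) (Nat.pow_lt_pow_right (by norm_num) (Nat.lt_succ_self k)),
    ← Nat.add_zero (2 ^ k), nform_high, nform_zero, mul_one]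

theorem nform_map {H : Type*} [Group H] (f : G →* H) : ∀ n e,
    f (nform a n e) = nform (fun k => f (a k)) n e
  | 0, _ => map_one f
  | n + 1, e => by
    rw [nform, nform]
    split_ifs
    · rw [map_mul, nform_map f n]
    · exact nform_map f n e

theorem nform_congr {b : ℕ → G} : ∀ n, (∀ k < n, a k = b k) → ∀ e, nform a n e = nform b n e
  | 0, _, _ => rfl
  | n + 1, h, e => by
    rw [nform, nform, nform_congr n (fun k hk => h k (by omega)),
      nform_congr n (fun k hk => h k (by omega)), h n (by omega)]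

end NormalForm

/-! ### Certificates -/

/-- Apply a function to a number after evaluating it. -/
def natF {α : Type} (n : ℕ) (k : ℕ → α) : α :=
  match n with
  | 0 => k 0
  | m + 1 => k (m + 1)

theorem natF_eq {α : Type} (n : ℕ) (k : ℕ → α) : natF n k = k n := by
  cases n <;> rfl

/-- Apply a function to a pair after evaluating it. -/
def pairF {α : Type} (r : ℕ × ℕ) (k : ℕ × ℕ → α) : α :=
  match r with
  | (a, b) => natF a fun a' => natF b fun b' => k (a', b')

theorem pairF_eq {α : Type} (r : ℕ × ℕ) (k : ℕ × ℕ → α) : pairF r k = k r := by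
  obtain ⟨a, b⟩ := r
  simp only [pairF, natF_eq]

/-- The data of a certificate. -/
structure Cert where
  /-- The number of generators. -/
  n : ℕ
  /-- The number of unknowns. -/
  nV : ℕ
  /-- The target of each relation. -/
  target : List (List ℕ)
  /-- The unknown of each relation. -/
  block : List (List ℕ)
  /-- Products by one generator on the left: normal form and kernel part. -/
  mulTable : List (ℕ × ℕ)
  /-- Conjugate pairs. -/
  conj : List (ℕ × ℕ × ℕ)
  /-- How each conjugate pair arises. -/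
  par : List (ℕ × ℕ × ℕ)
  /-- The equations. -/
  eqs : List (ℕ × ℕ × ℕ × ℕ)
  /-- Their rows. -/
  rows : List ℕ
  /-- The corrections. -/
  fix : List ℕ
  /-- The combinations. -/
  combos : List ℕ

namespace Cert

variable (T : Cert)

/-- The number of relations. -/
def nR : ℕ := T.n * (T.n + 1) / 2

/-- An entry of the table of products: the rows are packed in fields of `n` and of `nR` bits. -/
def mulEnt (k e : ℕ) : ℕ × ℕ :=
  ((T.mulTable.getD k (0, 0)).1 >>> (T.n * e) % 2 ^ T.n, (T.mulTable.getD k (0, 0)).2 >>> (T.nR * e) % 2 ^ T.nR)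

/-- The target of a relation. -/
def tgt (k j : ℕ) : ℕ := (T.target.getD j []).getD k 0

/-- The target as a normal form. -/
def fullTgt (k j : ℕ) : ℕ := cond (Nat.beq k j) (T.tgt k j) (2 ^ j + T.tgt k j)

/-- The unknown of a relation. -/
def relF (k j : ℕ) : ℕ := 2 ^ (T.block.getD j []).getD k 0

/-- The unknown of a conjugate pair. -/
def cF (i : ℕ) : ℕ := 2 ^ (T.nR + i)

/-- A conjugate pair. -/
def cp (i : ℕ) : ℕ × ℕ × ℕ := T.conj.getD i (0, 0, 0)

/-- A product of normal forms: `x` below `2 ^ n`. -/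
def mulNF : ℕ → ℕ → ℕ → ℕ × ℕ
  | 0, _, y => (y, 0)
  | n + 1, x, y =>
    if 2 ^ n ≤ x then
      pairF (mulNF n (x - 2 ^ n) y) fun r => pairF (T.mulEnt n r.1) fun t => (t.1, r.2 ^^^ t.2)
    else mulNF n x y

/-- The recurrences at one level. -/
def levelOk (m : ℕ) : Bool :=
  ((List.range (2 ^ m)).all fun e =>
      Nat.beq (T.mulEnt m e).1 (2 ^ m + e) && Nat.beq (T.mulEnt m e).2 0 &&
        Nat.beq (T.mulEnt m (2 ^ m + e)).1 (T.mulNF m (T.tgt m m) e).1 &&
        Nat.beq (T.mulEnt m (2 ^ m + e)).2 (T.relF m m ^^^ (T.mulNF m (T.tgt m m) e).2) &&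
        Nat.blt (T.tgt m m) (2 ^ m)) &&
    (List.range m).all fun k => (List.range (2 ^ m)).all fun e =>
      Nat.beq (T.mulEnt k (2 ^ m + e)).1 (2 ^ m + (T.mulNF m (T.tgt k m) e).1) &&
        Nat.beq (T.mulEnt k (2 ^ m + e)).2 (T.relF k m ^^^ (T.mulNF m (T.tgt k m) e).2) &&
        Nat.blt (T.tgt k m) (2 ^ m)

/-- The relations use different unknowns in the right range. -/
def blockOk : Bool :=
  (List.range T.n).all fun j => (List.range (j + 1)).all fun k =>
    Nat.blt (T.tgt k j) (2 ^ j) && Nat.blt ((T.block.getD j []).getD k 0) T.nR &&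
      (List.range T.n).all fun j' => (List.range (j' + 1)).all fun k' =>
        !Nat.beq ((T.block.getD j' []).getD k' 0) ((T.block.getD j []).getD k 0) ||
          (Nat.beq k' k && Nat.beq j' j)

/-- The conjugate pairs are in range, and derived ones are products of earlier ones. -/
def conjOk : Bool :=
  Nat.ble (T.nR + T.conj.length) T.nV &&
    (List.range T.conj.length).all fun i =>
      Nat.blt (T.cp i).2.1 (2 ^ T.n) && Nat.blt (T.cp i).2.2 (2 ^ T.n) &&
        cond (Nat.beq (T.par.getD i (0, 0, 0)).1 0) true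
          (Nat.blt (T.par.getD i (0, 0, 0)).2.1 i && Nat.blt (T.par.getD i (0, 0, 0)).2.2 i &&
            Nat.beq (T.cp (T.par.getD i (0, 0, 0)).2.1).1 (T.cp i).1 &&
            Nat.beq (T.cp (T.par.getD i (0, 0, 0)).2.2).1 (T.cp i).1 &&
            Nat.beq (T.mulNF T.n (T.cp (T.par.getD i (0, 0, 0)).2.1).2.1
              (T.cp (T.par.getD i (0, 0, 0)).2.2).2.1).1 (T.cp i).2.1 &&
            Nat.beq (T.mulNF T.n (T.cp (T.par.getD i (0, 0, 0)).2.1).2.2
              (T.cp (T.par.getD i (0, 0, 0)).2.2).2.2).1 (T.cp i).2.2)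

/-- The first kind of equation. -/
def assocF (a b c : ℕ) : ℕ :=
  (T.mulNF T.n a b).2 ^^^ (T.mulNF T.n (T.mulNF T.n a b).1 c).2 ^^^
    ((T.mulNF T.n b c).2 ^^^ (T.mulNF T.n a (T.mulNF T.n b c).1).2)

/-- The second kind of equation. -/
def stabF (o1 o2 o3 : ℕ) : ℕ :=
  (T.mulNF T.n (T.cp o1).2.1 (T.cp o2).2.1).2 ^^^ T.cF o3 ^^^
    (T.cF o1 ^^^ T.cF o2 ^^^ (T.mulNF T.n (T.cp o1).2.2 (T.cp o2).2.2).2)

/-- One equation. -/
def eqChk (e : ℕ × ℕ × ℕ × ℕ) (row : ℕ) : Bool :=
  cond (Nat.beq e.1 0)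
    (Nat.blt e.2.1 T.n && Nat.blt e.2.2.1 T.n && Nat.blt e.2.2.2 T.n &&
      Nat.beq (T.assocF (2 ^ e.2.1) (2 ^ e.2.2.1) (2 ^ e.2.2.2)) row &&
      Nat.beq (T.mulNF T.n (T.mulNF T.n (2 ^ e.2.1) (2 ^ e.2.2.1)).1 (2 ^ e.2.2.2)).1
        (T.mulNF T.n (2 ^ e.2.1) (T.mulNF T.n (2 ^ e.2.2.1) (2 ^ e.2.2.2)).1).1)
    (Nat.blt e.2.1 T.conj.length && Nat.blt e.2.2.1 T.conj.length && Nat.blt e.2.2.2 T.conj.length &&
      Nat.beq (T.stabF e.2.1 e.2.2.1 e.2.2.2) row &&
      Nat.beq (T.cp e.2.2.1).1 (T.cp e.2.1).1 && Nat.beq (T.cp e.2.2.2).1 (T.cp e.2.1).1 &&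
      Nat.beq (T.mulNF T.n (T.cp e.2.1).2.1 (T.cp e.2.2.1).2.1).1 (T.cp e.2.2.2).2.1 &&
      Nat.beq (T.mulNF T.n (T.cp e.2.1).2.2 (T.cp e.2.2.1).2.2).1 (T.cp e.2.2.2).2.2)

/-- All equations. -/
def eqsOk : Bool :=
  (List.range T.rows.length).all fun m => T.eqChk (T.eqs.getD m (0, 0, 0, 0)) (T.rows.getD m 0)

/-- The correction of a normal form. -/
def hF : ℕ → ℕ → ℕ
  | 0, _ => 0
  | n + 1, e => if 2 ^ n ≤ e then T.fix.getD n 0 ^^^ hF n (e - 2 ^ n) else hF n e

/-- Selected xor. -/
def selXor (sel : ℕ → Bool) (val : ℕ → ℕ) : ℕ → ℕ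
  | 0 => 0
  | n + 1 => selXor sel val n ^^^ cond (sel n) (val n) 0

/-- The corrected relation. -/
def resF (k j : ℕ) : ℕ :=
  T.relF k j ^^^ (T.fix.getD k 0 ^^^ T.fix.getD j 0 ^^^ T.hF T.n (T.fullTgt k j))

/-- The combinations. -/
def resOk : Bool :=
  (List.range T.n).all fun j => (List.range (j + 1)).all fun k =>
    Nat.beq (T.resF k j)
      (selXor (fun m => (T.combos.getD ((T.block.getD j []).getD k 0) 0).testBit m)
        (fun m => T.rows.getD m 0) T.rows.length)

/-- The whole certificate. -/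
structure Ok : Prop where
  level : ∀ m < T.n, T.levelOk m = true
  block : T.blockOk = true
  conj : T.conjOk = true
  eqs : T.eqsOk = true
  res : T.resOk = true

/-- A group containing the configuration of the certificate. -/
structure Model {G : Type*} [Group G] (a g : ℕ → G) : Prop where
  rel : ∀ j < T.n, ∀ k ≤ j, a k * a j = nform a T.n (T.fullTgt k j)
  base : ∀ i < T.conj.length, (T.par.getD i (0, 0, 0)).1 = 0 →
    g (T.cp i).1 * nform a T.n (T.cp i).2.1 = nform a T.n (T.cp i).2.2 * g (T.cp i).1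
  inj : ∀ x < 2 ^ T.n, ∀ y < 2 ^ T.n, nform a T.n x = nform a T.n y → x = y

end Cert

/-! ### Values -/

section Values

variable {K : Type*} [AddCommGroup K] (N : ℕ) (v : ℕ → K)

/-- The value of a row. -/
noncomputable irreducible_def rowVal (m : ℕ) : K :=
  ∑ i ∈ Finset.range N, if m.testBit i then v i else 0

theorem rowVal_xor (hK : ∀ x : K, x + x = 0) (p q : ℕ) :
    rowVal N v (p ^^^ q) = rowVal N v p + rowVal N v q := by
  simp only [rowVal_def, ← Finset.sum_add_distrib, Nat.testBit_xor]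
  refine Finset.sum_congr rfl fun i _ => ?_
  cases p.testBit i <;> cases q.testBit i <;> simp [hK]

theorem rowVal_zero : rowVal N v 0 = 0 := by simp [rowVal_def]

theorem rowVal_two_pow {k : ℕ} (hk : k < N) : rowVal N v (2 ^ k) = v k := by
  rw [rowVal_def, Finset.sum_eq_single k]
  · simp
  · intro i _ hi
    simp [Nat.testBit_two_pow, Ne.symm hi]
  · intro h; exact absurd (Finset.mem_range.2 hk) h

theorem rowVal_selXor (hK : ∀ x : K, x + x = 0) (sel : ℕ → Bool) (val : ℕ → ℕ) : ∀ n,
    rowVal N v (Cert.selXor sel val n) =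
      ∑ j ∈ Finset.range n, if sel j then rowVal N v (val j) else 0
  | 0 => by simp [Cert.selXor, rowVal_zero]
  | n + 1 => by
    rw [Cert.selXor, rowVal_xor N v hK, rowVal_selXor hK sel val n, Finset.sum_range_succ]
    cases sel n <;> simp [rowVal_zero]

end Values

end Cfsg.Agent.CentralTwo
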