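import Cfsg.Agent.Lib.Transfer.SplitLifts

/-!
Central extensions over an elementary abelian Sylow subgroup of rank two normalised diagonally by an
element of determinant other than one.
-/

set_option autoImplicit false

namespace Cfsg.Agent.CentralTwo

open Cfsg.Agent.Transfer.SplitLifts
open scoped commutatorElement Pointwise

/-- Sylow subgroups over such a subgroup are abelian. -/
theorem rank_two_criterion {Γ G : Type} [Group Γ] [Group G] [Finite Γ] [Finite G] {σ : Γ →* G}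
    (hc : σ.ker ≤ Subgroup.center Γ) (hσ : Function.Surjective σ) {p : ℕ} [hp : Fact p.Prime]
    {x y r : G} (hx : x ^ p = 1) (hy : y ^ p = 1) (hxy : Commute x y) {a b : ℕ}
    (hrx : r * x * r⁻¹ = x ^ a) (hry : r * y * r⁻¹ = y ^ b) (hab : a * b % p ≠ 1)
    (hinj : Function.Injective fun q : Fin p × Fin p => x ^ (q.1 : ℕ) * y ^ (q.2 : ℕ))
    (hN : (Nat.card G).factorization p = 2) (P : Sylow p Γ) :
    ⁅(P : Subgroup Γ), (P : Subgroup Γ)⁆ ⊓ σ.ker = ⊥ := by
  classical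
  obtain ⟨X, hX⟩ := hσ x
  obtain ⟨Y, hY⟩ := hσ y
  obtain ⟨R, hR⟩ := hσ r
  have hC1 : σ ⁅X, Y⁆ = 1 := by
    rw [map_commutatorElement, hX, hY, commutatorElement_eq_one_iff_mul_comm]; exact hxy.eq
  have hCc : ∀ g, Commute g ⁅X, Y⁆ := central hc hC1
  have hl : ∀ n : ℕ, ⁅X ^ n, Y⁆ = ⁅X, Y⁆ ^ n := by
    intro n
    induction n with
    | zero => simp
    | succ n ih =>
      rw [pow_succ, pow_succ', show ⁅X ^ n * X, Y⁆ = X ^ n * ⁅X, Y⁆ * (X ^ n)⁻¹ * ⁅X ^ n, Y⁆ by
        rw [commutatorElement_def, commutatorElement_def, commutatorElement_def]; group,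
        (hCc (X ^ n)).eq, mul_inv_cancel_right, ih]
  have hr : ∀ m n : ℕ, ⁅X ^ m, Y ^ n⁆ = ⁅X, Y⁆ ^ (m * n) := by
    intro m n
    induction n with
    | zero => simp
    | succ n ih =>
      rw [pow_succ', show ⁅X ^ m, Y * Y ^ n⁆ = ⁅X ^ m, Y⁆ * (Y * ⁅X ^ m, Y ^ n⁆ * Y⁻¹) by
        rw [commutatorElement_def, commutatorElement_def, commutatorElement_def]; group,
        ih, hl, ((hCc Y).pow_right _).eq, mul_inv_cancel_right, ← pow_add]
      congr 1; ring
  have hXY : Commute X Y := by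
    have hp1 : ⁅X, Y⁆ ^ p = 1 := by
      rw [← hl, commutatorElement_eq_one_iff_mul_comm]
      exact (central hc (by rw [map_pow, hX, hx]) Y).symm.eq
    have h2 : R * ⁅X, Y⁆ * R⁻¹ = ⁅X, Y⁆ := by rw [(hCc R).eq, mul_inv_cancel_right]
    rw [show R * ⁅X, Y⁆ * R⁻¹ = ⁅R * X * R⁻¹, R * Y * R⁻¹⁆ from
        map_commutatorElement (MulAut.conj R).toMonoidHom X Y,
      comm_congr hc (X' := X ^ a) (Y' := Y ^ b)
        (by rw [map_mul, map_mul, map_inv, hR, hX, hrx, map_pow, hX])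
        (by rw [map_mul, map_mul, map_inv, hR, hY, hry, map_pow, hY]), hr] at h2
    apply commutatorElement_eq_one_iff_mul_comm.1
    by_contra hne
    have ho : orderOf ⁅X, Y⁆ = p := orderOf_eq_prime hp1 hne
    rw [← pow_mod_orderOf, ho] at h2
    refine hab (pow_injOn_Iio_orderOf (x := ⁅X, Y⁆) ?_ ?_ (h2.trans (pow_one _).symm))
    · rw [Set.mem_Iio, ho]; exact Nat.mod_lt _ hp.out.pos
    · rw [Set.mem_Iio, ho]; exact hp.out.one_lt
  set S0 := Subgroup.closure ({x, y} : Set G)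
  have hform : ∀ g ∈ S0, ∃ i j : ℕ, g = x ^ i * y ^ j := by
    intro g hg
    have hx' : x ∈ ({g : G | ∃ i j : ℕ, g = x ^ i * y ^ j}) := ⟨1, 0, by simp⟩
    induction hg using Subgroup.closure_induction with
    | mem t ht =>
      rcases ht with rfl | rfl
      · exact ⟨1, 0, by simp⟩
      · exact ⟨0, 1, by simp⟩
    | one => exact ⟨0, 0, by simp⟩
    | mul u w _ _ hu hw =>
      obtain ⟨i, j, rfl⟩ := hu
      obtain ⟨i', j', rfl⟩ := hw
      refine ⟨i + i', j + j', ?_⟩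
      rw [pow_add, pow_add, (hxy.pow_pow i' j).symm.mul_mul_mul_comm]
    | inv u _ hu =>
      obtain ⟨i, j, rfl⟩ := hu
      refine ⟨i * (p - 1), j * (p - 1), inv_eq_of_mul_eq_one_right ?_⟩
      have hp' : ∀ n : ℕ, n + n * (p - 1) = p * n := fun n => by
        have := hp.out.pos
        calc n + n * (p - 1) = n * (1 + (p - 1)) := by ring
          _ = p * n := by rw [Nat.add_sub_cancel' hp.out.pos]; ring
      rw [(hxy.pow_pow (i * (p - 1)) j).symm.mul_mul_mul_comm, ← pow_add, ← pow_add, hp', hp',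
        pow_mul, pow_mul, hx, hy, one_pow, one_pow, one_mul]
  have hS0 : Nat.card S0 = p ^ 2 := by
    have hmem : ∀ i j : ℕ, x ^ i * y ^ j ∈ S0 := fun i j =>
      mul_mem (pow_mem (Subgroup.subset_closure (by simp)) _) (pow_mem (Subgroup.subset_closure (by simp)) _)
    rw [show p ^ 2 = Nat.card (Fin p × Fin p) by simp [pow_two]]
    refine (Nat.card_eq_of_bijective (fun q : Fin p × Fin p => (⟨_, hmem q.1 q.2⟩ : S0))
      ⟨fun u w h => hinj (congrArg Subtype.val h), ?_⟩).symm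
    rintro ⟨g, hg⟩
    obtain ⟨i, j, rfl⟩ := hform g hg
    refine ⟨(⟨i % p, Nat.mod_lt _ hp.out.pos⟩, ⟨j % p, Nat.mod_lt _ hp.out.pos⟩), Subtype.ext ?_⟩
    simp only [← pow_eq_pow_mod i hx, ← pow_eq_pow_mod j hy]
  let S : Sylow p G := Sylow.ofCard S0 (by rw [hS0, hN])
  obtain ⟨g, hg⟩ := MulAction.exists_smul_eq G (P.mapSurjective hσ) S
  obtain ⟨T0, rfl⟩ := hσ g
  have hP : ∀ u ∈ (P : Subgroup Γ), ∃ i j : ℕ, ∃ z, σ z = 1 ∧ T0 * u * T0⁻¹ = X ^ i * Y ^ j * z := by
    intro u hu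
    have : σ (T0 * u * T0⁻¹) ∈ (S : Subgroup G) := by
      rw [← hg, Sylow.coe_subgroup_smul, Subgroup.mem_pointwise_smul_iff_inv_smul_mem,
        Sylow.coe_mapSurjective]
      exact ⟨u, hu, by simp [MulAut.smul_def, mul_assoc]⟩
    obtain ⟨i, j, e⟩ := hform _ this
    obtain ⟨z, hz, e'⟩ := exists_central hc
      (show σ (X ^ i * Y ^ j) = σ (T0 * u * T0⁻¹) by rw [e, map_mul, map_pow, map_pow, hX, hY])
    exact ⟨i, j, z, hz, e'⟩
  have : ⁅(P : Subgroup Γ), (P : Subgroup Γ)⁆ = ⊥ := by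
    rw [eq_bot_iff, Subgroup.commutator_le]
    intro u hu w hw
    rw [Subgroup.mem_bot, commutatorElement_eq_one_iff_mul_comm]
    obtain ⟨i, j, z, hz, el⟩ := hP u hu
    obtain ⟨i', j', z', hz', el'⟩ := hP w hw
    have hFF : Commute (X ^ i * Y ^ j) (X ^ i' * Y ^ j') :=
      ((Commute.refl X).pow_pow i i' |>.mul_right (hXY.pow_pow i j')).mul_left
        ((hXY.pow_pow i' j).symm.mul_right ((Commute.refl Y).pow_pow j j'))
    have hFz : Commute (X ^ i * Y ^ j * z) (X ^ i' * Y ^ j' * z') :=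
      (hFF.mul_right (central hc hz' _)).mul_left (central hc hz _).symm
    rw [← el, ← el'] at hFz
    apply (MulAut.conj T0).injective
    simp only [map_mul, MulAut.conj_apply]
    exact hFz.eq
  rw [this, bot_inf_eq]

end Cfsg.Agent.CentralTwo
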