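import Cfsg.Agent.Lib.CentralTwo.Basic

/-!
A valid certificate with a model forces central extensions with kernel of exponent two to split
over a Sylow 2-subgroup.
-/

set_option autoImplicit false

namespace Cfsg.Agent.CentralTwo

open scoped IsMulCommutative Pointwise commutatorElement

/-- The data needed for collecting. -/
structure Setting (T : Cert) {K : Type*} [AddCommGroup K] {Γ : Type*} [Group Γ] (ι : K → Γ)
    (A : ℕ → Γ) (v : ℕ → K) : Prop where
  two : ∀ x : K, x + x = 0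
  add : ∀ x y, ι (x + y) = ι x * ι y
  central : ∀ x g, ι x * g = g * ι x
  rel : ∀ j < T.n, ∀ k ≤ j,
    A k * A j = ι (rowVal T.nV v (T.relF k j)) * nform A T.n (T.fullTgt k j)

section Collect

variable {T : Cert} {K : Type*} [AddCommGroup K] {Γ : Type*} [Group Γ] {ι : K → Γ} {A : ℕ → Γ}
  {v : ℕ → K}

theorem Setting.zero (S : Setting T ι A v) : ι 0 = 1 := by
  have := S.add 0 0
  rw [add_zero] at this
  exact mul_eq_left.1 this.symm

theorem Setting.rel' (S : Setting T ι A v) {j : ℕ} (hj : j < T.n) {k : ℕ} (hk : k ≤ j)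
    (ht : T.tgt k j < 2 ^ j) :
    A k * A j = ι (rowVal T.nV v (T.relF k j)) *
      (if k = j then nform A j (T.tgt k j) else A j * nform A j (T.tgt k j)) := by
  rw [S.rel j hj k hk]
  congr 1
  rcases eq_or_ne k j with rfl | hne
  · rw [if_pos rfl, show T.fullTgt k k = T.tgt k k by simp [Cert.fullTgt],
      nform_mono A (by omega) ht]
  · have hb : Nat.beq k j = false := by
      cases h : Nat.beq k j with
      | false => rfl
      | true => exact absurd (Nat.eq_of_beq_eq_true h) hne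
    rw [if_neg hne, show T.fullTgt k j = 2 ^ j + T.tgt k j by simp [Cert.fullTgt, hb],
      nform_mono A (by omega : j + 1 ≤ T.n) (by rw [pow_succ]; omega), nform_high]

theorem Setting.mulNF_spec (S : Setting T ι A v) {n : ℕ}
    (hL : ∀ k < n, ∀ e < 2 ^ n, (T.mulEnt k e).1 < 2 ^ n ∧
      A k * nform A n e = ι (rowVal T.nV v (T.mulEnt k e).2) * nform A n (T.mulEnt k e).1) :
    ∀ i ≤ n, ∀ x < 2 ^ i, ∀ y < 2 ^ n, (T.mulNF i x y).1 < 2 ^ n ∧
      nform A n x * nform A n y =
        ι (rowVal T.nV v (T.mulNF i x y).2) * nform A n (T.mulNF i x y).1 := by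
  intro i
  induction i with
  | zero =>
    intro _ x hx y hy
    obtain rfl : x = 0 := by simpa using hx
    refine ⟨hy, ?_⟩
    simp only [Cert.mulNF, rowVal_zero, S.zero, nform_zero]
  | succ i ih =>
    intro hi x hx y hy
    rw [Cert.mulNF]
    simp only [pairF_eq]
    split_ifs with h
    · have hx' : x - 2 ^ i < 2 ^ i := by rw [pow_succ] at hx; omega
      obtain ⟨h1, h2⟩ := ih (by omega) _ hx' y hy
      obtain ⟨h3, h4⟩ := hL i (by omega) _ h1
      refine ⟨h3, ?_⟩
      have ex : nform A n x = A i * nform A n (x - 2 ^ i) := by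
        rw [nform_mono A (by omega : i + 1 ≤ n) hx, nform_mono A (by omega : i ≤ n) hx', nform, if_pos h]
      rw [ex, mul_assoc, h2, ← mul_assoc, ← S.central, mul_assoc, h4, ← mul_assoc, ← S.add,
        rowVal_xor T.nV v S.two]
    · exact ih (by omega) x (by omega) y hy

theorem Setting.table (S : Setting T ι A v) (hT : T.Ok) : ∀ n ≤ T.n, ∀ k < n, ∀ e < 2 ^ n,
    (T.mulEnt k e).1 < 2 ^ n ∧
      A k * nform A n e = ι (rowVal T.nV v (T.mulEnt k e).2) * nform A n (T.mulEnt k e).1 := by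
  intro n
  induction n with
  | zero => intro _ k hk; omega
  | succ n ih =>
    intro hn k hk e he
    have hL := ih (by omega)
    have h := hT.level n (by omega)
    simp only [Cert.levelOk, Bool.and_eq_true, List.all_eq_true, List.mem_range, Nat.blt_eq] at h
    obtain ⟨hdiag, hoff⟩ := h
    have hp : (2 : ℕ) ^ (n + 1) = 2 ^ n + 2 ^ n := by rw [pow_succ]; ring
    rcases Nat.lt_or_ge e (2 ^ n) with hlow | hhigh
    · rcases Nat.lt_or_ge k n with hkn | hkn
      · obtain ⟨h1, h2⟩ := hL k hkn e hlow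
        refine ⟨by omega, ?_⟩
        rw [nform_low A hlow, nform_low A h1, h2]
      · obtain rfl : k = n := by omega
        obtain ⟨⟨⟨⟨d1, d2⟩, -⟩, -⟩, -⟩ := hdiag e hlow
        rw [Nat.eq_of_beq_eq_true d1, Nat.eq_of_beq_eq_true d2, rowVal_zero, S.zero, one_mul,
          nform_high, nform_low A hlow]
        exact ⟨by omega, rfl⟩
    · obtain ⟨e', rfl⟩ := Nat.exists_eq_add_of_le hhigh
      have he' : e' < 2 ^ n := by omega
      rcases Nat.lt_or_ge k n with hkn | hkn
      · obtain ⟨⟨d1, d2⟩, d3⟩ := hoff k hkn e' he'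
        obtain ⟨h1, h2⟩ := S.mulNF_spec hL n le_rfl _ d3 e' he'
        rw [Nat.eq_of_beq_eq_true d1, Nat.eq_of_beq_eq_true d2]
        refine ⟨by omega, ?_⟩
        rw [nform_high, nform_high, ← mul_assoc, S.rel' (by omega) hkn.le d3, if_neg (by omega), mul_assoc,
          mul_assoc, h2, ← mul_assoc (A n), ← S.central _ (A n), rowVal_xor T.nV v S.two, S.add, mul_assoc,
          mul_assoc]
      · obtain rfl : k = n := by omega
        obtain ⟨⟨⟨⟨-, -⟩, d1⟩, d2⟩, d3⟩ := hdiag e' he'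
        obtain ⟨h1, h2⟩ := S.mulNF_spec hL k le_rfl _ d3 e' he'
        rw [Nat.eq_of_beq_eq_true d1, Nat.eq_of_beq_eq_true d2]
        refine ⟨by omega, ?_⟩
        rw [nform_high, nform_low A h1, ← mul_assoc, S.rel' (by omega) le_rfl d3, if_pos rfl, mul_assoc, h2,
          rowVal_xor T.nV v S.two, S.add, mul_assoc]

/-- Products of normal forms. -/
theorem Setting.mul_spec (S : Setting T ι A v) (hT : T.Ok) {x y : ℕ} (hx : x < 2 ^ T.n) (hy : y < 2 ^ T.n) :
    (T.mulNF T.n x y).1 < 2 ^ T.n ∧ nform A T.n x * nform A T.n y =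
      ι (rowVal T.nV v (T.mulNF T.n x y).2) * nform A T.n (T.mulNF T.n x y).1 :=
  S.mulNF_spec (S.table hT T.n le_rfl) T.n le_rfl x hx y hy

end Collect

section Main

variable {T : Cert} {G : Type*} [Group G] {a g : ℕ → G}

theorem fullTgt_lt (hT : T.Ok) {j : ℕ} (hj : j < T.n) {k : ℕ} (hk : k ≤ j) :
    T.fullTgt k j < 2 ^ T.n ∧ T.tgt k j < 2 ^ j ∧ (T.block.getD j []).getD k 0 < T.nR := by
  have h := hT.block
  simp only [Cert.blockOk, Bool.and_eq_true, List.all_eq_true, List.mem_range, Nat.blt_eq] at h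
  obtain ⟨⟨h1, h2⟩, -⟩ := h j hj k (by omega)
  refine ⟨?_, h1, h2⟩
  have h3 : (2 : ℕ) ^ (j + 1) ≤ 2 ^ T.n := Nat.pow_le_pow_right (by norm_num) (by omega)
  have h4 : T.fullTgt k j ≤ 2 ^ j + T.tgt k j := by
    unfold Cert.fullTgt
    cases Nat.beq k j <;> simp
  rw [pow_succ] at h3
  omega

theorem Cert.Model.mul (M : T.Model a g) (hT : T.Ok) {x y : ℕ} (hx : x < 2 ^ T.n) (hy : y < 2 ^ T.n) :
    (T.mulNF T.n x y).1 < 2 ^ T.n ∧
      nform a T.n x * nform a T.n y = nform a T.n (T.mulNF T.n x y).1 := by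
  have S : Setting T (fun _ : PUnit.{1} => (1 : G)) a (fun _ => PUnit.unit) :=
    ⟨fun _ => rfl, fun _ _ => (one_mul 1).symm, fun _ h => (one_mul h).trans (mul_one h).symm,
      fun j hj k hk => by rw [one_mul]; exact M.rel j hj k hk⟩
  obtain ⟨h1, h2⟩ := S.mul_spec hT hx hy
  exact ⟨h1, by rw [h2, one_mul]⟩

theorem Cert.Model.conjugate (M : T.Model a g) (hT : T.Ok) : ∀ i < T.conj.length,
    g (T.cp i).1 * nform a T.n (T.cp i).2.1 = nform a T.n (T.cp i).2.2 * g (T.cp i).1 := by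
  have h := hT.conj
  simp only [Cert.conjOk, Bool.and_eq_true, List.all_eq_true, List.mem_range] at h
  intro i
  induction i using Nat.strong_induction_on with
  | _ i ih =>
    intro hi
    obtain ⟨-, h3⟩ := h.2 i hi
    by_cases h0 : (T.par.getD i (0, 0, 0)).1 = 0
    · exact M.base i hi h0
    · have hb : Nat.beq (T.par.getD i (0, 0, 0)).1 0 = false := by
        cases hh : Nat.beq (T.par.getD i (0, 0, 0)).1 0 with
        | false => rfl
        | true => exact absurd (Nat.eq_of_beq_eq_true hh) h0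
      simp only [hb, cond_false, Bool.and_eq_true, Nat.blt_eq] at h3
      obtain ⟨⟨⟨⟨⟨ha, hb'⟩, hua⟩, hub⟩, hq⟩, hq'⟩ := h3
      generalize (T.par.getD i (0, 0, 0)).2.1 = o1 at ha hua hq hq'
      generalize (T.par.getD i (0, 0, 0)).2.2 = o2 at hb' hub hq hq'
      obtain ⟨⟨ra, ra'⟩, -⟩ := h.2 o1 (by omega)
      obtain ⟨⟨rb, rb'⟩, -⟩ := h.2 o2 (by omega)
      rw [Nat.blt_eq] at ra ra' rb rb'
      have e1 := ih o1 ha (by omega)
      have e2 := ih o2 hb' (by omega)
      rw [Nat.eq_of_beq_eq_true hua] at e1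
      rw [Nat.eq_of_beq_eq_true hub] at e2
      rw [← Nat.eq_of_beq_eq_true hq, ← Nat.eq_of_beq_eq_true hq', ← (M.mul hT ra rb).2,
        ← (M.mul hT ra' rb').2, ← mul_assoc, e1, mul_assoc, e2, ← mul_assoc]

theorem two_trivial [Finite G] (hT : T.Ok) (M : T.Model a g)
    (hcard : (Nat.card G).factorization 2 = T.n) {Γ : Type*} [Group Γ] [Finite Γ] (σ : Γ →* G)
    (hc : σ.ker ≤ Subgroup.center Γ) (hσ : Function.Surjective σ)
    (hex : ∀ z, σ z = 1 → z * z = 1) (P : Sylow 2 Γ) :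
    ⁅(P : Subgroup Γ), (P : Subgroup Γ)⁆ ⊓ σ.ker = ⊥ := by
  classical
  haveI : Fact (Nat.Prime 2) := ⟨Nat.prime_two⟩
  have cen : ∀ {z : Γ}, σ z = 1 → ∀ y, z * y = y * z := fun hz y =>
    (Subgroup.mem_center_iff.1 (hc hz) y).symm
  haveI : IsMulCommutative ↥σ.ker := isMulCommutative_iff.mpr fun p q => Subtype.ext (cen p.2 q.1)
  let K := Additive ↥σ.ker
  let ι : K → Γ := fun x => ((Additive.toMul x : ↥σ.ker) : Γ)
  have hι1 : ∀ x, σ (ι x) = 1 := fun x => (Additive.toMul x).2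
  have hιadd : ∀ x y, ι (x + y) = ι x * ι y := fun _ _ => rfl
  have hι0 : ι 0 = 1 := rfl
  have hιinj : Function.Injective ι := fun x y h => Additive.toMul.injective (Subtype.ext h)
  have hK : ∀ x : K, x + x = 0 := fun x => hιinj (by rw [hιadd, hι0]; exact hex _ (hι1 x))
  have hιc : ∀ x y, ι x * y = y * ι x := fun x y => cen (hι1 x) y
  have diff : ∀ p q : Γ, σ p = σ q → ∃ x : K, p = ι x * q := fun p q h =>
    ⟨Additive.ofMul ⟨p * q⁻¹, by rw [MonoidHom.mem_ker, map_mul, map_inv, h, mul_inv_cancel]⟩,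
      (inv_mul_cancel_right p q).symm⟩
  choose lift hlift using hσ
  let A : ℕ → Γ := fun k => lift (a k)
  let L : ℕ → Γ := fun u => lift (g u)
  have hσA : ∀ e, σ (nform A T.n e) = nform a T.n e := fun e =>
    (nform_map A σ T.n e).trans (nform_congr _ T.n (fun k _ => hlift _) e)
  have hr : ∀ j, j < T.n → ∀ k, k ≤ j → ∃ x : K, A k * A j = ι x * nform A T.n (T.fullTgt k j) :=
    fun j hj k hk => diff _ _ (by rw [map_mul, hlift, hlift, hσA]; exact M.rel j hj k hk)
  choose rx hrx using hr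
  have hcv : ∀ i, i < T.conj.length → ∃ x : K, L (T.cp i).1 * nform A T.n (T.cp i).2.1 =
      ι x * (nform A T.n (T.cp i).2.2 * L (T.cp i).1) := fun i hi => diff _ _ (by
    rw [map_mul, map_mul, hlift, hσA, hσA]; exact M.conjugate hT i hi)
  choose cx hcx using hcv
  let isRel : ℕ → ℕ × ℕ → Prop := fun i p =>
    p.2 < T.n ∧ p.1 ≤ p.2 ∧ (T.block.getD p.2 []).getD p.1 0 = i
  let v : ℕ → K := fun i =>
    if h : ∃ p, isRel i p then rx h.choose.2 h.choose_spec.1 h.choose.1 h.choose_spec.2.1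
    else if h' : i - T.nR < T.conj.length then cx _ h' else 0
  have hB := hT.block
  simp only [Cert.blockOk, Bool.and_eq_true, List.all_eq_true, List.mem_range, Bool.or_eq_true,
    Bool.not_eq_true'] at hB
  have hC := hT.conj
  simp only [Cert.conjOk, Bool.and_eq_true, List.all_eq_true, List.mem_range, Nat.blt_eq] at hC
  obtain ⟨hnV, hC⟩ := hC
  rw [Nat.ble_eq] at hnV
  have hrelF : ∀ j (hj : j < T.n) k (hk : k ≤ j), rowVal T.nV v (T.relF k j) = rx j hj k hk := by
    intro j hj k hk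
    have hlt := (fullTgt_lt hT hj hk).2.2
    rw [Cert.relF, rowVal_two_pow _ _ (by omega)]
    have he : ∃ p, isRel ((T.block.getD j []).getD k 0) p := ⟨(k, j), hj, hk, rfl⟩
    simp only [v, dif_pos he]
    have hp : he.choose = (k, j) := by
      obtain ⟨h1, h2, h3⟩ := he.choose_spec
      rcases (hB j hj k (by omega)).2 he.choose.2 h1 he.choose.1 (by omega) with h | h
      · rw [h3, show Nat.beq _ _ = true from Nat.beq_refl _] at h
        exact Bool.noConfusion h
      · exact Prod.ext (Nat.eq_of_beq_eq_true h.1) (Nat.eq_of_beq_eq_true h.2)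
    have gen : ∀ p (h1 : p.2 < T.n) (h2 : p.1 ≤ p.2), p = (k, j) → rx p.2 h1 p.1 h2 = rx j hj k hk := by
      rintro p h1 h2 rfl; rfl
    exact gen _ _ _ hp
  have hcF : ∀ i (hi : i < T.conj.length), rowVal T.nV v (T.cF i) = cx i hi := by
    intro i hi
    rw [Cert.cF, rowVal_two_pow _ _ (by omega)]
    have hne : ¬ ∃ p, isRel (T.nR + i) p := by
      rintro ⟨p, h1, h2, h3⟩
      have := (fullTgt_lt hT h1 h2).2.2
      omega
    simp only [v, dif_neg hne]
    have gen : ∀ q, q = i → (if h : q < T.conj.length then cx q h else 0) = cx i hi := by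
      rintro q rfl; rw [dif_pos hi]
    exact gen _ (Nat.add_sub_cancel_left _ _)
  have S : Setting T ι A v := ⟨hK, hιadd, hιc, fun j hj k hk => by rw [hrelF j hj k hk]; exact hrx j hj k hk⟩
  have cancel : ∀ {x y : K} {p : Γ}, ι x * p = ι y * p → x + y = 0 := fun {x y p} h => by
    rw [hιinj (mul_right_cancel h), hK]
  have hpow : ∀ k < T.n, (2 : ℕ) ^ k < 2 ^ T.n := fun k hk => Nat.pow_lt_pow_right (by norm_num) hk
  -- the equations
  have hrow : ∀ m < T.rows.length, rowVal T.nV v (T.rows.getD m 0) = 0 := by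
    intro m hm
    have h := hT.eqs
    simp only [Cert.eqsOk, List.all_eq_true, List.mem_range] at h
    have h := h m hm
    generalize T.rows.getD m 0 = row at h ⊢
    generalize T.eqs.getD m (0, 0, 0, 0) = e at h
    obtain ⟨kind, p, q, r⟩ := e
    simp only [Cert.eqChk] at h
    rcases Nat.eq_zero_or_pos kind with rfl | hkind
    · simp only [Nat.beq, cond_true, Bool.and_eq_true, Nat.blt_eq] at h
      obtain ⟨⟨⟨⟨hp, hq⟩, hr⟩, hrow⟩, hres⟩ := h
      obtain ⟨l1, e1⟩ := S.mul_spec hT (hpow p hp) (hpow q hq)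
      obtain ⟨-, e2⟩ := S.mul_spec hT l1 (hpow r hr)
      obtain ⟨l3, e3⟩ := S.mul_spec hT (hpow q hq) (hpow r hr)
      obtain ⟨-, e4⟩ := S.mul_spec hT (hpow p hp) l3
      have key := mul_assoc (nform A T.n (2 ^ p)) (nform A T.n (2 ^ q)) (nform A T.n (2 ^ r))
      rw [e1, mul_assoc, e2, ← mul_assoc, ← hιadd, e3, ← mul_assoc, ← hιc, mul_assoc, e4, ← mul_assoc,
        ← hιadd, Nat.eq_of_beq_eq_true hres] at key
      rw [← Nat.eq_of_beq_eq_true hrow, Cert.assocF, rowVal_xor _ _ hK, rowVal_xor _ _ hK, rowVal_xor _ _ hK]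
      exact cancel key
    · have hk : Nat.beq kind 0 = false := by
        cases kind with
        | zero => omega
        | succ n => rfl
      simp only [hk, cond_false, Bool.and_eq_true, Nat.blt_eq] at h
      obtain ⟨⟨⟨⟨⟨⟨⟨hp, hq⟩, hr⟩, hrow⟩, hu2⟩, hu3⟩, hz⟩, hz'⟩ := h
      obtain ⟨⟨hp1, hp2⟩, -⟩ := hC p hp
      obtain ⟨⟨hq1, hq2⟩, -⟩ := hC q hq
      obtain ⟨-, e1⟩ := S.mul_spec hT hp1 hq1
      obtain ⟨-, e2⟩ := S.mul_spec hT hp2 hq2
      have c1 := hcx p hp
      have c2 := hcx q hq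
      have c3 := hcx r hr
      rw [Nat.eq_of_beq_eq_true hu2] at c2
      rw [Nat.eq_of_beq_eq_true hu3] at c3
      rw [← hcF p hp] at c1
      rw [← hcF q hq] at c2
      rw [← hcF r hr] at c3
      have key := (mul_assoc (L (T.cp p).1) (nform A T.n (T.cp p).2.1) (nform A T.n (T.cp q).2.1)).symm
      rw [e1, ← mul_assoc, ← hιc, mul_assoc, Nat.eq_of_beq_eq_true hz, c3, c1, mul_assoc, mul_assoc,
        c2, ← mul_assoc (nform A T.n (T.cp p).2.2), ← hιc, mul_assoc, ← mul_assoc (nform A T.n (T.cp p).2.2),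
        e2, Nat.eq_of_beq_eq_true hz'] at key
      simp only [← mul_assoc, ← hιadd] at key
      simp only [mul_assoc] at key
      rw [← Nat.eq_of_beq_eq_true hrow, Cert.stabF, rowVal_xor _ _ hK, rowVal_xor _ _ hK, rowVal_xor _ _ hK,
        rowVal_xor _ _ hK]
      simp only [← add_assoc] at key
      exact cancel key
  have hres : ∀ j < T.n, ∀ k ≤ j, rowVal T.nV v (T.resF k j) = 0 := by
    intro j hj k hk
    have h := hT.res
    simp only [Cert.resOk, List.all_eq_true, List.mem_range] at h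
    rw [Nat.eq_of_beq_eq_true (h j hj k (by omega)), rowVal_selXor _ _ hK]
    exact Finset.sum_eq_zero fun m hm => by rw [hrow m (Finset.mem_range.1 hm)]; exact ite_self _
  -- corrected lifts
  let B : ℕ → Γ := fun k => ι (rowVal T.nV v (T.fix.getD k 0)) * A k
  have hBe : ∀ n e, nform B n e = ι (rowVal T.nV v (T.hF n e)) * nform A n e := by
    intro n
    induction n with
    | zero => intro e; rw [nform, nform, Cert.hF, rowVal_zero, hι0, mul_one]
    | succ n ih =>
      intro e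
      rw [nform, nform, Cert.hF]
      split_ifs
      · rw [ih, rowVal_xor _ _ hK, hιadd]
        show ι _ * A n * _ = _
        rw [mul_assoc, ← mul_assoc (A n), ← hιc, mul_assoc, mul_assoc]
      · exact ih e
  have SB : Setting T ι B (fun _ => 0) := ⟨hK, hιadd, hιc, fun j hj k hk => by
    rw [show rowVal T.nV (fun _ : ℕ => (0 : K)) (T.relF k j) = 0 by simp [rowVal_def], hι0, one_mul,
      hBe T.n]
    show ι _ * A k * (ι _ * A j) = _
    rw [mul_assoc, ← mul_assoc (A k), ← hιc, mul_assoc, hrx j hj k hk, ← hrelF j hj k hk, ← mul_assoc,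
      ← hιadd, ← mul_assoc, ← hιadd]
    congr 2
    have h0 := hres j hj k hk
    rw [Cert.resF, rowVal_xor _ _ hK, rowVal_xor _ _ hK, rowVal_xor _ _ hK] at h0
    have neg : ∀ x : K, -x = x := fun x => neg_eq_of_add_eq_zero_left (hK x)
    rw [← neg (rowVal T.nV v (T.hF T.n (T.fullTgt k j)))]
    refine eq_neg_of_add_eq_zero_left ?_
    rw [← h0]; abel⟩
  -- a complement over the Sylow subgroup
  let P0 : Subgroup Γ :=
    { carrier := {x | ∃ e < 2 ^ T.n, x = nform B T.n e}
      one_mem' := ⟨0, Nat.two_pow_pos _, (nform_zero B _).symm⟩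
      mul_mem' := by
        rintro _ _ ⟨x, hx, rfl⟩ ⟨y, hy, rfl⟩
        obtain ⟨h1, h2⟩ := SB.mul_spec hT hx hy
        exact ⟨_, h1, by rw [h2]; simp [rowVal_def, hι0]⟩
      inv_mem' := by
        rintro p ⟨x, hx, rfl⟩
        rw [← zpow_neg_one]
        obtain ⟨n, hn⟩ := (mem_powers_iff_mem_zpowers (x := nform B T.n x)).2
          (Subgroup.zpow_mem_zpowers (nform B T.n x) (-1))
        rw [← hn]
        clear hn
        induction n with
        | zero => exact ⟨0, Nat.two_pow_pos _, (pow_zero _).trans (nform_zero B _).symm⟩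
        | succ n ih =>
          obtain ⟨y, hy, hye⟩ := ih
          obtain ⟨h1, h2⟩ := SB.mul_spec hT hy hx
          exact ⟨_, h1, by
            show nform B T.n x ^ (n + 1) = _
            rw [pow_succ, show nform B T.n x ^ n = nform B T.n y from hye, h2]; simp [rowVal_def, hι0]⟩ }
  have hσB : ∀ e, σ (nform B T.n e) = nform a T.n e := fun e => by
    rw [hBe, map_mul, hι1, one_mul, hσA]
  have hS : Nat.card (P0.map σ) = 2 ^ T.n := by
    have hbij : Function.Bijective (fun e : Fin (2 ^ T.n) =>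
        (⟨σ (nform B T.n e.1), _, ⟨e.1, e.2, rfl⟩, rfl⟩ : P0.map σ)) := by
      refine ⟨fun x y h => Fin.ext (M.inj _ x.2 _ y.2 ?_), ?_⟩
      · rw [← hσB, ← hσB]; exact congrArg Subtype.val h
      · rintro ⟨_, p, ⟨e, he, rfl⟩, rfl⟩; exact ⟨⟨e, he⟩, rfl⟩
    rw [← Nat.card_eq_of_bijective _ hbij, Nat.card_fin]
  let S0 : Sylow 2 G := Sylow.ofCard (P0.map σ) (by rw [hS, hcard])
  have hσ' : Function.Surjective σ := fun x => ⟨lift x, hlift x⟩
  obtain ⟨t, ht⟩ := MulAction.exists_smul_eq G (P.mapSurjective hσ') S0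
  let T0 := lift t
  have hP : ∀ p ∈ (P : Subgroup Γ), ∃ b ∈ P0, ∃ z : K, T0 * p * T0⁻¹ = ι z * b := by
    intro p hp
    have : σ (T0 * p * T0⁻¹) ∈ P0.map σ := by
      show σ (T0 * p * T0⁻¹) ∈ (S0 : Subgroup G)
      rw [← ht, Sylow.coe_subgroup_smul, Subgroup.mem_pointwise_smul_iff_inv_smul_mem,
        Sylow.coe_mapSurjective]
      exact ⟨p, hp, by simp [MulAut.smul_def, mul_assoc, T0, hlift]⟩
    obtain ⟨b, hb, hbe⟩ := this
    obtain ⟨z, hz⟩ := diff (T0 * p * T0⁻¹) b hbe.symm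
    exact ⟨b, hb, z, hz⟩
  have hsub : ⁅(P : Subgroup Γ), (P : Subgroup Γ)⁆ ≤ P0.comap (MulAut.conj T0).toMonoidHom := by
    rw [Subgroup.commutator_le]
    intro p hp q hq
    obtain ⟨b, hb, z, el⟩ := hP p hp
    obtain ⟨b', hb', z', el'⟩ := hP q hq
    rw [Subgroup.mem_comap, map_commutatorElement]
    simp only [MulEquiv.coe_toMonoidHom, MulAut.conj_apply, el, el']
    have : ⁅ι z * b, ι z' * b'⁆ = ⁅b, b'⁆ := by
      calc ι z * b * (ι z' * b') * (ι z * b)⁻¹ * (ι z' * b')⁻¹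
          = ι z * (b * ι z') * (b' * b⁻¹) * ((ι z)⁻¹ * b'⁻¹) * (ι z')⁻¹ := by group
        _ = ι z * (ι z' * b) * (b' * b⁻¹) * (b'⁻¹ * (ι z)⁻¹) * (ι z')⁻¹ := by
            rw [← hιc z' b, (show Commute (ι z) b'⁻¹ from hιc z b'⁻¹).inv_left.eq]
        _ = (ι z * ι z') * (b * b' * b⁻¹ * b'⁻¹) * ((ι z)⁻¹ * (ι z')⁻¹) := by group
        _ = (b * b' * b⁻¹ * b'⁻¹) * ((ι z * ι z') * ((ι z)⁻¹ * (ι z')⁻¹)) := by
            rw [← hιadd, hιc, mul_assoc]
        _ = ⁅b, b'⁆ := by
            rw [hιc z (ι z'), commutatorElement_def]; group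
    rw [this]
    exact P0.mul_mem (P0.mul_mem (P0.mul_mem hb hb') (P0.inv_mem hb)) (P0.inv_mem hb')
  rw [eq_bot_iff]
  rintro p ⟨hp, hpk⟩
  rw [Subgroup.mem_bot]
  have h1 : T0 * p * T0⁻¹ = p := by rw [← cen hpk, mul_inv_cancel_right]
  have h2 := hsub hp
  rw [Subgroup.mem_comap] at h2
  simp only [MulEquiv.coe_toMonoidHom, MulAut.conj_apply, h1] at h2
  obtain ⟨e, he, rfl⟩ := h2
  rw [M.inj e he 0 (Nat.two_pow_pos _) (by rw [nform_zero, ← hσB]; exact hpk), nform_zero]

end Main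

end Cfsg.Agent.CentralTwo
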